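import Groth.Agent.Lib.Unibranch.Unramified
import Groth.Agent.Lib.BrnchNhd.Ascend
import Groth.Agent.Lib.BrnchNhd.Equiv
import Groth.Agent.Lib.KerDiag14.Basic

/-!
# Rational sections of unramified morphisms at geometrically unibranch points
-/

universe u

open CategoryTheory CategoryTheory.Limits AlgebraicGeometry Topology TopologicalSpace

set_option linter.style.haveILetI false

noncomputable section

namespace GrothLib.RatSecUnib

variable {X Y : Scheme.{u}}

/-- A geometrically unibranch point of a reduced scheme with locally finite components has an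
integral neighbourhood. -/
theorem exists_integral_nhd [IsReduced Y]
    (hcomp : LocallyFinite (fun Z : ↥(irreducibleComponents ↥Y) => (Z : Set ↥Y)))
    (y : Y) (hy : CAlg2.IsGeomUnibranch (Y.presheaf.stalk y)) :
    ∃ V : Y.Opens, y ∈ V ∧ IsIntegral (V : Scheme.{u}) := by
  have hp : (nilradical (Y.presheaf.stalk y)).IsPrime := (Ideal.Quotient.isDomain_iff_prime _).mp hy.1.1
  haveI := hp
  let η := Y.fromSpecStalk y ⟨nilradical (Y.presheaf.stalk y), hp⟩
  have hη : ∀ y', y' ⤳ y → η ⤳ y' := fun y' hy' => by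
    obtain ⟨p, rfl⟩ := Scheme.range_fromSpecStalk.ge hy'
    exact ((PrimeSpectrum.le_iff_specializes
      (⟨nilradical (Y.presheaf.stalk y), hp⟩ : PrimeSpectrum (Y.presheaf.stalk y)) p).1
        (haveI := p.isPrime; nilradical_le_prime p.asIdeal)).map (Y.fromSpecStalk y).continuous
  let bad := {Z : ↥(irreducibleComponents ↥Y) // y ∉ (Z : Set ↥Y)}
  have hlf : LocallyFinite (fun Z : bad => ((Z.1 : ↥(irreducibleComponents ↥Y)) : Set ↥Y)) :=
    hcomp.comp_injective Subtype.val_injective
  let V : Y.Opens := ⟨(⋃ Z : bad, ((Z.1 : ↥(irreducibleComponents ↥Y)) : Set ↥Y))ᶜ,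
    (hlf.isClosed_iUnion fun Z => isClosed_of_mem_irreducibleComponents _ Z.1.2).isOpen_compl⟩
  have hyV : y ∈ V := by
    simp only [V, TopologicalSpace.Opens.mem_mk, Set.mem_compl_iff, Set.mem_iUnion, not_exists]
    exact fun Z => Z.2
  have hVC : (V : Set Y) ⊆ closure {η} := by
    intro v hv
    have hvC := mem_irreducibleComponent (x := v)
    let C : ↥(irreducibleComponents ↥Y) := ⟨irreducibleComponent v, irreducibleComponent_mem_irreducibleComponents v⟩
    have hyC : y ∈ (C : Set Y) := by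
      by_contra h
      exact hv (Set.mem_iUnion.2 ⟨⟨C, h⟩, hvC⟩)
    obtain ⟨c, hc⟩ := QuasiSober.sober (isIrreducible_irreducibleComponent (x := v)) isClosed_irreducibleComponent
    exact ((hη c (hc.specializes hyC)).trans (hc.specializes hvC)).mem_closure
  refine ⟨V, hyV, ?_⟩
  have hirr : IsIrreducible (V : Set Y) :=
    ⟨⟨y, hyV⟩, fun A B hA hB ⟨a, haV, haA⟩ ⟨b, hbV, hbB⟩ => by
      have hηA : η ∈ A := (specializes_iff_mem_closure.2 (hVC haV)).mem_open hA haA
      have hηB : η ∈ B := (specializes_iff_mem_closure.2 (hVC hbV)).mem_open hB hbB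
      have hηV : η ∈ (V : Set Y) := (specializes_iff_mem_closure.2 (hVC haV)).mem_open V.2 haV
      exact ⟨η, hηV, hηA, hηB⟩⟩
  haveI : IrreducibleSpace (V : Scheme.{u}) :=
    (irreducibleSpace_def _).2 (by
      rw [Set.top_eq_univ]
      have h := hirr.preimage V.ι.isOpenEmbedding ⟨y, hyV, ⟨y, hyV⟩, rfl⟩
      rwa [← V.range_ι, Set.preimage_range] at h)
  haveI : IsReduced (V : Scheme.{u}) := isReduced_of_isOpenImmersion V.ι
  exact isIntegral_of_irreducibleSpace_of_isReduced _

/-- An étale separated morphism which is a monomorphism near its only maximal point is an open immersion. -/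
theorem isOpenImmersion_of_generic (g : X ⟶ Y) [Etale g] [IsSeparated g] (x' : X)
    (hmax : ∀ ζ : X, (∀ w, w ⤳ ζ → w = ζ) → ζ = x') (R : X.Opens) (hR : x' ∈ R) [Mono (R.ι ≫ g)] :
    IsOpenImmersion g := by
  let Δ := pullback.diagonal g
  haveI : IsOpenImmersion Δ := inferInstance
  have hsurj : Function.Surjective Δ := by
    intro z
    obtain ⟨ζ, hζz, hζ⟩ := GrothLib.Unibranch.exists_maximal_generization z
    suffices hζΔ : ζ ∈ Set.range Δ from hζz.mem_closed Δ.isClosedEmbedding.isClosed_range hζΔ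
    haveI : Etale (pullback.fst g g) := inferInstance
    haveI : Etale (pullback.snd g g) := inferInstance
    have h1 : pullback.fst g g ζ = x' := hmax _ fun w hw =>
      GrothLib.Unibranch.maximal_map _ (Flat.generalizingMap _) ζ hζ w hw
    have h2 : pullback.snd g g ζ = x' := hmax _ fun w hw =>
      GrothLib.Unibranch.maximal_map _ (Flat.generalizingMap _) ζ hζ w hw
    let ι := (pullback g g).fromSpecResidueField ζ
    have hmem : ∀ p : pullback g g ⟶ X, p ζ = x' → Set.range (ι ≫ p) ⊆ Set.range R.ι := by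
      rintro p hp _ ⟨t, rfl⟩
      rw [Scheme.Hom.comp_apply, Scheme.fromSpecResidueField_apply, hp, Scheme.Opens.range_ι]
      exact hR
    let a := IsOpenImmersion.lift R.ι (ι ≫ pullback.fst g g) (hmem _ h1)
    let b := IsOpenImmersion.lift R.ι (ι ≫ pullback.snd g g) (hmem _ h2)
    have hab : a = b := by
      rw [← cancel_mono (R.ι ≫ g), IsOpenImmersion.lift_fac_assoc, IsOpenImmersion.lift_fac_assoc,
        Category.assoc, Category.assoc, pullback.condition]
    have hι : ι = (a ≫ R.ι) ≫ Δ := by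
      apply pullback.hom_ext
      · rw [Category.assoc, Category.assoc, pullback.diagonal_fst, Category.comp_id, IsOpenImmersion.lift_fac]
      · rw [Category.assoc, Category.assoc, pullback.diagonal_snd, Category.comp_id, hab, IsOpenImmersion.lift_fac]
    let pt : Spec ((pullback g g).residueField ζ) := IsLocalRing.closedPoint ((pullback g g).residueField ζ)
    refine ⟨(a ≫ R.ι) pt, ?_⟩
    rw [← Scheme.Hom.comp_apply, ← hι]
    exact (pullback g g).fromSpecResidueField_apply ζ pt
  haveI : Surjective Δ := ⟨hsurj⟩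
  haveI : IsIso Δ := IsOpenImmersion.isIso Δ
  haveI : Mono g := (pullback.isIso_diagonal_iff g).1 inferInstance
  exact IsOpenImmersion.of_flat_of_mono g

/-- Extension of a section of an unramified morphism to a geometrically unibranch point in the closure of its image. -/
theorem exists_section_of_integral [IsIntegral Y] (f : X ⟶ Y) [IsSeparated f] [LocallyOfFiniteType f]
    [FormallyUnramified f] (U : Y.Opens) (u : (U : Scheme.{u}) ⟶ X) (hu : u ≫ f = U.ι) (x : X)
    (hy : CAlg2.IsGeomUnibranch (Y.presheaf.stalk (f x))) (hx : x ∈ closure (Set.range u)) :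
    ∃ (V : Y.Opens) (v : (V : Scheme.{u}) ⟶ X), f x ∈ V ∧ v ≫ f = V.ι ∧
      Y.homOfLE (inf_le_left : U ⊓ V ≤ U) ≫ u = Y.homOfLE (inf_le_right : U ⊓ V ≤ V) ≫ v := by
  obtain ⟨_, t₀, -⟩ := closure_nonempty_iff.1 ⟨x, hx⟩
  have hfu : ∀ t, f (u t) = t.1 := fun t => by
    rw [← Scheme.Hom.comp_apply, hu]; rfl
  let η := genericPoint Y
  have hηU : η ∈ U := (genericPoint_specializes t₀.1).mem_open U.2 t₀.2
  let x' := u ⟨η, hηU⟩
  have hsp : x' ⤳ x := by
    rw [specializes_iff_mem_closure]
    refine (closure_minimal ?_ isClosed_closure) hx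
    rintro _ ⟨t, rfl⟩
    refine (Specializes.map (f := u) ?_ u.continuous).mem_closure
    exact IsInducing.subtypeVal.specializes_iff.mp (genericPoint_specializes t.1)
  obtain ⟨O, hxO, hOet, huniq⟩ := GrothLib.Unibranch.exists_etale_irreducible_nbhd f x hy x' hsp
    ((hfu _).trans rfl) ⟨⊤, trivial, GrothLib.Unibranch.formallyUnramified_comp_openImmersion _ _⟩
  haveI := hOet
  -- the image of the section is open, and the base is isomorphic to it
  let u' : (U : Scheme.{u}) ⟶ (f ⁻¹ᵁ U : Scheme.{u}) := IsOpenImmersion.lift (f ⁻¹ᵁ U).ι u (by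
    rintro _ ⟨t, rfl⟩
    rw [Scheme.Opens.range_ι]
    show f (u t) ∈ U
    rw [hfu]; exact t.2)
  have hu' : u' ≫ (f ⁻¹ᵁ U).ι = u := IsOpenImmersion.lift_fac _ _ _
  haveI : LocallyOfFiniteType (f ∣_ U) := inferInstance
  haveI : FormallyUnramified (f ∣_ U) := by
    haveI : FormallyUnramified ((f ∣_ U) ≫ U.ι) := by
      rw [morphismRestrict_ι]; exact GrothLib.Unibranch.formallyUnramified_comp_openImmersion _ _
    exact FormallyUnramified.of_comp (f ∣_ U) U.ι
  haveI : IsOpenImmersion u' := GrothLib.KerDiag14.isOpenImmersion_section (f ∣_ U) u' (by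
    rw [← cancel_mono U.ι, Category.assoc, morphismRestrict_ι, ← Category.assoc, hu', hu, Category.id_comp])
  haveI : IsOpenImmersion u := by rw [← hu']; infer_instance
  have key : ∀ {W : Scheme.{u}} (c : W ⟶ X) (h : Set.range c ⊆ Set.range u),
      IsOpenImmersion.lift u c h ≫ U.ι = c ≫ f := fun {W} c h => by
    rw [← hu, IsOpenImmersion.lift_fac_assoc]
  let g := O.ι ≫ f
  haveI : IsSeparated g := inferInstance
  have hx'O : x' ∈ O := hsp.mem_open O.2 hxO
  let R : (O : Scheme.{u}).Opens := O.ι ⁻¹ᵁ u.opensRange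
  haveI : Mono (R.ι ≫ g) := by
    constructor
    intro W a b hab
    have hR : ∀ c : W ⟶ (R : Scheme.{u}), Set.range (c ≫ R.ι ≫ O.ι) ⊆ Set.range u := fun c => by
      rintro _ ⟨w, rfl⟩
      exact (c w).2
    have ha := IsOpenImmersion.lift_fac u (a ≫ R.ι ≫ O.ι) (hR a)
    have hb := IsOpenImmersion.lift_fac u (b ≫ R.ι ≫ O.ι) (hR b)
    have : IsOpenImmersion.lift u (a ≫ R.ι ≫ O.ι) (hR a) = IsOpenImmersion.lift u (b ≫ R.ι ≫ O.ι) (hR b) := by
      rw [← cancel_mono U.ι, key, key]
      simpa [g, Category.assoc] using hab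
    rw [← cancel_mono R.ι, ← cancel_mono O.ι, Category.assoc, Category.assoc, ← ha, ← hb, this]
  haveI : IsOpenImmersion g := by
    refine isOpenImmersion_of_generic g ⟨x', hx'O⟩ (fun ζ hζ => ?_) R ⟨⟨η, hηU⟩, rfl⟩
    refine Subtype.ext ((huniq ζ.1 ζ.2).2 ζ.1 specializes_rfl fun w hw => ?_)
    have hwO : w ∈ O := hw.mem_open O.2 ζ.2
    exact congrArg Subtype.val (hζ ⟨w, hwO⟩ (IsInducing.subtypeVal.specializes_iff.mp hw))
  refine ⟨g.opensRange, g.isoOpensRange.inv ≫ O.ι, ⟨⟨x, hxO⟩, rfl⟩, ?_, ?_⟩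
  · rw [Category.assoc]
    exact g.isoOpensRange_inv_comp
  · let V := g.opensRange
    let W := U ⊓ V
    haveI : IsReduced (W : Scheme.{u}) := isReduced_of_isOpenImmersion W.ι
    have hηV : η ∈ V := ⟨⟨x', hx'O⟩, (hfu _).trans rfl⟩
    have hηW : η ∈ W := ⟨hηU, hηV⟩
    let w₀ : (W : Scheme.{u}) := ⟨η, hηW⟩
    let ι₀ := (W : Scheme.{u}).fromSpecResidueField w₀
    haveI : IsDominant ι₀ := ⟨fun w => by
      have hm : ({(⟨η, hηW⟩ : (W : Scheme.{u}))} : Set _) ⊆ Set.range ι₀ := Set.singleton_subset_iff.2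
        ⟨IsLocalRing.closedPoint ((W : Scheme.{u}).residueField w₀), Scheme.fromSpecResidueField_apply _ _⟩
      refine closure_mono hm ?_
      exact (IsInducing.subtypeVal.specializes_iff.mp (genericPoint_specializes w.1)).mem_closure⟩
    refine ext_of_isDominant_of_isSeparated f ?_ ι₀ ?_
    · rw [Category.assoc, hu, Category.assoc, Category.assoc, g.isoOpensRange_inv_comp, Scheme.homOfLE_ι,
        Scheme.homOfLE_ι]
    · -- both send the generic point into `R`, where `f` is a monomorphism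
      let a := ι₀ ≫ Y.homOfLE (inf_le_left : U ⊓ V ≤ U)
      let b := ι₀ ≫ Y.homOfLE (inf_le_right : U ⊓ V ≤ V) ≫ g.isoOpensRange.inv
      have hbR : Set.range b ⊆ Set.range R.ι := by
        rintro _ ⟨t, rfl⟩
        rw [Scheme.Opens.range_ι]
        have hbt : b t = ⟨x', hx'O⟩ := by
          apply g.isOpenEmbedding.injective
          rw [← Scheme.Hom.comp_apply, Category.assoc, Category.assoc, g.isoOpensRange_inv_comp,
            Scheme.homOfLE_ι, Scheme.Hom.comp_apply]
          erw [Scheme.fromSpecResidueField_apply]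
          exact (hfu ⟨η, hηU⟩).symm
        show b t ∈ R
        rw [hbt]
        exact ⟨⟨η, hηU⟩, rfl⟩
      let b' := IsOpenImmersion.lift R.ι b hbR
      have hb' : b' ≫ R.ι = b := IsOpenImmersion.lift_fac _ _ _
      have hbu : Set.range (b' ≫ R.ι ≫ O.ι) ⊆ Set.range u := by
        rintro _ ⟨w, rfl⟩
        exact (b' w).2
      have hc := IsOpenImmersion.lift_fac u (b' ≫ R.ι ≫ O.ι) hbu
      have he : IsOpenImmersion.lift u (b' ≫ R.ι ≫ O.ι) hbu = a := by
        rw [← cancel_mono U.ι, Category.assoc, Scheme.homOfLE_ι, key, Category.assoc, Category.assoc,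
          ← Category.assoc b' R.ι, hb']
        simp only [b, Category.assoc]
        rw [g.isoOpensRange_inv_comp, Scheme.homOfLE_ι]
      rw [he] at hc
      rw [← Category.assoc, show ι₀ ≫ Y.homOfLE (inf_le_left : U ⊓ V ≤ U) = a from rfl, hc, ← Category.assoc b',
        hb']
      simp [b]

end GrothLib.RatSecUnib
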